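import Mathlib.Algebra.BigOperators.Fin
import Mathlib.Algebra.BigOperators.Intervals
import Mathlib.Data.Real.Basic
import Mathlib.Tactic.Linarith
import Mathlib.Tactic.Positivity
import Mathlib.Tactic.LinearCombination
import Mathlib.Tactic.Ring
import Mathlib.Tactic.FieldSimp

/-!
The combinatorial lemma in the numerical criterion for stability of high degree curves: a chain
minimising the trapezoid functional, and the estimate for the extremal gap sequence.
-/

set_option autoImplicit false

namespace Groth.Agent.Lib.GIT.ChainGap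

open Finset

theorem sum_le_max (f : ℕ → ℝ) (n m : ℕ) (hm : m < n + 1) :
    ∑ i ∈ range m, (f m - f i) ≤ ∑ i ∈ range (n + 1), max 0 (f m - f i) :=
  (sum_le_sum (fun i _ => le_max_right _ _)).trans
    (sum_le_sum_of_subset_of_nonneg (range_subset_range.mpr hm.le) (fun i _ _ => le_max_left _ _))

/-- A sum along a chain from `a` to `n`. -/
def IsChainSum (f s : ℕ → ℝ) (n a : ℕ) (V : ℝ) : Prop :=
  ∃ (μ : ℕ) (c : Fin (μ + 1) → ℕ), StrictMono c ∧ c 0 = a ∧ c (Fin.last μ) = n ∧
    ∑ j : Fin μ, (f (c j.succ) - f (c j.castSucc)) * (s (c j.succ) + s (c j.castSucc)) = V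

theorem isChainSum_self (f s : ℕ → ℝ) (n : ℕ) : IsChainSum f s n n 0 :=
  ⟨0, fun _ => n, Fin.strictMono_iff_lt_succ.mpr (fun j => j.elim0), rfl, rfl, by simp⟩

theorem IsChainSum.cons {f s : ℕ → ℝ} {n a b : ℕ} {V : ℝ} (hab : a < b)
    (h : IsChainSum f s n b V) :
    IsChainSum f s n a ((f b - f a) * (s b + s a) + V) := by
  obtain ⟨μ, c, hc, h0, hl, hV⟩ := h
  refine ⟨μ + 1, Fin.cons a c, ?_, by simp, ?_, ?_⟩
  · refine Fin.strictMono_iff_lt_succ.mpr (fun i => ?_)
    induction i using Fin.cases with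
    | zero => simpa [h0] using hab
    | succ i => simpa [← Fin.succ_castSucc] using hc (Fin.castSucc_lt_succ)
  · simp [← Fin.succ_last, hl]
  · rw [Fin.sum_univ_succ]
    simp only [Fin.cons_succ, Fin.castSucc_zero, Fin.cons_zero, h0, ← Fin.succ_castSucc, hV]

/-- The least cost functions of the chains to `n`. -/
theorem exists_cost (f s : ℕ → ℝ) (n : ℕ) : ∀ k : ℕ, ∃ V : ℕ → ℝ, V n = 0 ∧
    ∀ a, a ≤ n → n ≤ a + k → IsChainSum f s n a (V a) ∧
      (∀ b, a < b → b ≤ n → V a ≤ (f b - f a) * (s b + s a) + V b) ∧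
      (a < n → ∃ b, a < b ∧ b ≤ n ∧ V a = (f b - f a) * (s b + s a) + V b) := by
  intro k
  induction k with
  | zero =>
    refine ⟨fun _ => 0, rfl, fun a h1 h2 => ?_⟩
    obtain rfl : a = n := le_antisymm h1 (by omega)
    exact ⟨isChainSum_self f s a, fun b h3 h4 => by omega, fun h => absurd h (lt_irrefl a)⟩
  | succ k ih =>
    obtain ⟨V, hVn, hV⟩ := ih
    by_cases hk : k + 1 ≤ n
    · set a₀ := n - (k + 1) with ha₀
      have hne : (Ioc a₀ n).Nonempty := ⟨n, mem_Ioc.mpr ⟨by omega, le_rfl⟩⟩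
      obtain ⟨b, hb, hbmin⟩ := exists_min_image (Ioc a₀ n)
        (fun b => (f b - f a₀) * (s b + s a₀) + V b) hne
      obtain ⟨hb1, hb2⟩ := mem_Ioc.mp hb
      classical
      set V' := Function.update V a₀ ((f b - f a₀) * (s b + s a₀) + V b) with hV'
      have e : ∀ x, x ≠ a₀ → V' x = V x := fun x hx => Function.update_of_ne hx _ _
      have e₀ : V' a₀ = (f b - f a₀) * (s b + s a₀) + V b := Function.update_self _ _ _
      refine ⟨V', by rw [e n (by omega), hVn], fun a h1 h2 => ?_⟩
      rcases eq_or_ne a a₀ with rfl | ha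
      · refine ⟨?_, fun x h3 h4 => ?_, fun _ => ⟨b, hb1, hb2, ?_⟩⟩
        · rw [e₀]
          exact (hV b hb2 (by omega)).1.cons hb1
        · rw [e₀, e x (by omega)]
          exact hbmin x (mem_Ioc.mpr ⟨h3, h4⟩)
        · rw [e₀, e b (by omega)]
      · obtain ⟨h5, h6, h7⟩ := hV a h1 (by omega)
        refine ⟨by rw [e a ha]; exact h5, fun x h3 h4 => ?_, fun h => ?_⟩
        · rw [e a ha, e x (by omega)]
          exact h6 x h3 h4
        · obtain ⟨x, h8, h9, h10⟩ := h7 h
          exact ⟨x, h8, h9, by rw [e a ha, e x (by omega), h10]⟩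
    · exact ⟨V, hVn, fun a h1 h2 => hV a h1 (by omega)⟩

/-- The cheapest chain from `0` gives a minorant of `s` which is a nonnegative combination of the
functions `x ↦ max 0 (f m - x)`. -/
theorem exists_chain_le (f s : ℕ → ℝ) (n : ℕ) (hf : StrictMonoOn f (Set.Iic n))
    (hs : AntitoneOn s (Set.Iic n)) (hsn : s n = 0) :
    ∃ (V : ℝ) (w : ℕ → ℝ), IsChainSum f s n 0 V ∧ (∀ m, 0 ≤ w m) ∧
      ∑ m ∈ range (n + 1), w m * (f m - f 0) = s 0 ∧
      ∑ m ∈ range (n + 1), w m * (f m - f 0) ^ 2 = V ∧
      ∀ i, i ≤ n → ∑ m ∈ range (n + 1), w m * max 0 (f m - f i) ≤ s i := by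
  obtain ⟨V, hVn, hV⟩ := exists_cost f s n n
  suffices H : ∀ k a : ℕ, a + k = n → ∃ w : ℕ → ℝ, (∀ m, 0 ≤ w m) ∧
      (∀ m, w m ≠ 0 → a < m ∧ m ≤ n) ∧
      ∑ m ∈ range (n + 1), w m * (f m - f a) = s a ∧
      ∑ m ∈ range (n + 1), w m * (f m - f a) ^ 2 = V a ∧
      (∀ i, a ≤ i → i ≤ n → ∑ m ∈ range (n + 1), w m * max 0 (f m - f i) ≤ s i) ∧
      (a < n → ∃ b, a < b ∧ b ≤ n ∧ V a = (f b - f a) * (s b + s a) + V b ∧
        (∑ m ∈ range (n + 1), w m) * (f b - f a) = s a - s b) by
    obtain ⟨w, h1, -, h3, h4, h5, -⟩ := H n 0 (by omega)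
    exact ⟨V 0, w, (hV 0 (Nat.zero_le n) (by omega)).1, h1, h3, h4,
      fun i hi => h5 i (Nat.zero_le i) hi⟩
  intro k
  induction k using Nat.strong_induction_on with
  | _ k ih =>
    intro a hak
    rcases Nat.eq_zero_or_pos k with rfl | hk
    · obtain rfl : a = n := by omega
      refine ⟨fun _ => 0, fun _ => le_rfl, fun m h => (h rfl).elim, by simp [hsn], by simp [hVn],
        fun i h1 h2 => ?_, fun h => absurd h (lt_irrefl a)⟩
      obtain rfl : i = a := le_antisymm h2 h1
      simp [hsn]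
    · have han : a ≤ n := by omega
      obtain ⟨-, hVle, hVeq⟩ := hV a han (by omega)
      obtain ⟨b, hab, hbn, hb⟩ := hVeq (by omega)
      obtain ⟨w', hw0, hwsupp, hwval, hwarea, hwbelow, hwslope⟩ :=
        ih (n - b) (by omega) b (by omega)
      have hf' : ∀ {x y : ℕ}, x < y → y ≤ n → f x < f y := fun hxy hy =>
        hf (Set.mem_Iic.mpr (hxy.le.trans hy)) (Set.mem_Iic.mpr hy) hxy
      have hfab := hf' hab hbn
      set σ := (s a - s b) / (f b - f a) with hσ
      have hσb : σ * (f b - f a) = s a - s b := div_mul_cancel₀ _ (by linarith)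
      -- convexity at `b`
      have hconv : ∑ m ∈ range (n + 1), w' m ≤ σ := by
        rcases eq_or_lt_of_le hbn with rfl | hbn'
        · have : ∀ m, w' m = 0 := fun m => by
            by_contra h
            have := hwsupp m h
            omega
          simp only [this, sum_const_zero]
          exact div_nonneg (sub_nonneg.mpr
            (hs (Set.mem_Iic.mpr han) (Set.mem_Iic.mpr le_rfl) hab.le)) (by linarith)
        · obtain ⟨c, hbc, hcn, hc, hslope⟩ := hwslope hbn'
          have h1 := hVle c (hab.trans hbc) hcn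
          have hfbc := hf' hbc hcn
          have key : 0 ≤ (f c - f b) * (s a - s b) - (f b - f a) * (s b - s c) := by linarith
          refine le_of_mul_le_mul_right ?_ (mul_pos (sub_pos.mpr hfab) (sub_pos.mpr hfbc))
          calc (∑ m ∈ range (n + 1), w' m) * ((f b - f a) * (f c - f b))
              = (f b - f a) * (s b - s c) := by rw [← hslope]; ring
            _ ≤ (f c - f b) * (s a - s b) := by linarith
            _ = σ * ((f b - f a) * (f c - f b)) := by rw [← hσb]; ring
      set δ := σ - ∑ m ∈ range (n + 1), w' m with hδ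
      have hbmem : b ∈ range (n + 1) := mem_range.mpr (by omega)
      set w : ℕ → ℝ := fun m => w' m + if m = b then δ else 0 with hw
      have hsumw : ∀ g : ℕ → ℝ, ∑ m ∈ range (n + 1), w m * g m =
          ∑ m ∈ range (n + 1), w' m * g m + δ * g b := by
        intro g
        simp [hw, add_mul, sum_add_distrib, ite_mul, hbmem]
      have hsum1 : ∑ m ∈ range (n + 1), w m = σ := by
        have := hsumw (fun _ => 1)
        simp only [mul_one] at this
        rw [this, hδ]; ring
      have hexp : ∀ x : ℝ, ∑ m ∈ range (n + 1), w' m * (f m - x) =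
          s b + (∑ m ∈ range (n + 1), w' m) * (f b - x) := by
        intro x
        rw [← hwval, sum_mul, ← sum_add_distrib]
        exact sum_congr rfl (fun m _ => by ring)
      refine ⟨w, ?_, ?_, ?_, ?_, ?_, fun _ => ⟨b, hab, hbn, hb, ?_⟩⟩
      · intro m
        have : 0 ≤ δ := sub_nonneg.mpr hconv
        have := hw0 m
        simp only [hw]
        split_ifs <;> linarith
      · intro m hm
        by_cases hmb : m = b
        · omega
        · have : w' m ≠ 0 := by simpa [hw, hmb] using hm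
          have := hwsupp m this
          omega
      · rw [hsumw, hexp (f a), hδ]
        linear_combination hσb
      · have h2 : ∑ m ∈ range (n + 1), w' m * (f m - f a) ^ 2 =
            ∑ m ∈ range (n + 1), w' m * (f m - f b) ^ 2 +
              2 * (f b - f a) * ∑ m ∈ range (n + 1), w' m * (f m - f b) +
              (f b - f a) ^ 2 * ∑ m ∈ range (n + 1), w' m := by
          simp only [mul_sum, ← sum_add_distrib]
          exact sum_congr rfl (fun m _ => by ring)
        rw [hsumw, h2, hwarea, hwval, hb, hδ]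
        linear_combination (f b - f a) * hσb
      · intro i hai hin
        rw [hsumw]
        rcases le_or_gt b i with hbi | hib
        · have : f b ≤ f i := hf.monotoneOn (Set.mem_Iic.mpr hbn) (Set.mem_Iic.mpr hin) hbi
          rw [max_eq_left (by linarith : f b - f i ≤ 0), mul_zero, add_zero]
          exact hwbelow i hbi hin
        · have hfib := hf' hib hbn
          have h3 : ∑ m ∈ range (n + 1), w' m * max 0 (f m - f i) =
              ∑ m ∈ range (n + 1), w' m * (f m - f i) := by
            refine sum_congr rfl (fun m _ => ?_)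
            by_cases hm : w' m = 0
            · simp [hm]
            · have := hwsupp m hm
              have := hf' (show i < m by omega) this.2
              rw [max_eq_right (by linarith)]
          rw [h3, hexp (f i), max_eq_right (by linarith : 0 ≤ f b - f i), hδ]
          have h4 : s b + σ * (f b - f i) ≤ s i := by
            rcases eq_or_lt_of_le hai with rfl | hai'
            · linarith
            · have h5 := hVle i hai' hin
              have h6 := (hV i hin (by omega)).2.1 b hib hbn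
              refine le_of_mul_le_mul_right ?_ (sub_pos.mpr hfab)
              have : (s b + σ * (f b - f i)) * (f b - f a) =
                  s b * (f b - f a) + (f b - f i) * (s a - s b) := by
                rw [← hσb]; ring
              rw [this]
              linarith
          linarith
      · rw [hsum1, hσb]

/-- The extremal sequence: `i` up to `n - g`, then `i + g`. -/
def fExt (n g : ℕ) (i : ℕ) : ℝ := (i : ℝ) + if i ≤ n - g then 0 else (g : ℝ)

theorem fExt_strictMono (n g : ℕ) : StrictMono (fExt n g) := by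
  intro i j h
  have : (i : ℝ) < j := by exact_mod_cast h
  have : (0 : ℝ) ≤ g := g.cast_nonneg
  unfold fExt
  split_ifs <;> first | linarith | omega

theorem sum_fExt (n g : ℕ) : ∀ m : ℕ, 2 * ∑ i ∈ range m, fExt n g i =
    (m : ℝ) * ((m : ℝ) - 1) + if m ≤ n - g then 0 else 2 * (g : ℝ) * ((m : ℝ) - ((n - g : ℕ) : ℝ) - 1)
  | 0 => by simp
  | m + 1 => by
    rw [sum_range_succ, mul_add, sum_fExt n g m]
    unfold fExt
    rcases lt_trichotomy m (n - g) with h | h | h
    · rw [if_pos h.le, if_pos h.le, if_pos (by omega : m + 1 ≤ n - g)]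
      push_cast; ring
    · subst h
      rw [if_pos le_rfl, if_pos le_rfl, if_neg (by omega)]
      push_cast; ring
    · rw [if_neg (by omega), if_neg (by omega), if_neg (by omega)]
      push_cast; ring

/-- The estimate for the extremal sequence. -/
theorem key_estimate (n g m : ℕ) (hg : 1 ≤ g) (hn : 2 * g ≤ n) (hm : 0 < m) (hmn : m ≤ n) :
    ((n : ℝ) + 1) * fExt n g m ^ 2 <
      2 * ((n : ℝ) + g) * ∑ i ∈ range m, (fExt n g m - fExt n g i) := by
  have hG : (1 : ℝ) ≤ g := by exact_mod_cast hg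
  have hN : (2 : ℝ) * g ≤ n := by exact_mod_cast hn
  have hM : (1 : ℝ) ≤ m := by exact_mod_cast hm
  have hMN : (m : ℝ) ≤ n := by exact_mod_cast hmn
  have hsub : ((n - g : ℕ) : ℝ) = (n : ℝ) - g := by
    rw [Nat.cast_sub (by omega)]
  rw [sum_sub_distrib, sum_const, card_range, nsmul_eq_mul]
  have hS := sum_fExt n g m
  rw [hsub] at hS
  unfold fExt at hS ⊢
  by_cases h : m ≤ n - g
  · simp only [h, if_true] at hS ⊢
    nlinarith [mul_pos (show (0 : ℝ) < m by linarith) (show (0 : ℝ) < (n : ℝ) + g by linarith),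
      mul_nonneg (sub_nonneg.mpr hG) (sq_nonneg (m : ℝ))]
  · simp only [h, if_false] at hS ⊢
    have hu : ((n : ℝ) - g) < m := by
      rw [← hsub]; exact_mod_cast Nat.lt_of_not_le h
    nlinarith [mul_pos (mul_pos (show (0 : ℝ) < g by linarith) (show (0 : ℝ) < (n : ℝ) + g by linarith))
        (show (0 : ℝ) < (n : ℝ) - 2 * g + 1 by linarith),
      mul_nonneg (show (0 : ℝ) ≤ (n : ℝ) + g by linarith) (sub_nonneg.mpr hMN),
      mul_nonneg (sub_nonneg.mpr hG) (sq_nonneg ((n : ℝ) - m))]

/-- Some chain has negative total for the extremal sequence. -/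
theorem exists_chain_neg (n g : ℕ) (hg : 1 ≤ g) (hn : 2 * g ≤ n) (r : ℕ → ℝ)
    (hr : AntitoneOn r (Set.Iic n)) (hsum : ∑ i ∈ range (n + 1), r i = 0) (hr0 : r n < r 0) :
    ∃ V < (0 : ℝ), IsChainSum (fExt n g) r n 0 V := by
  set f := fExt n g with hf
  set s : ℕ → ℝ := fun i => r i - r n with hs
  obtain ⟨V, w, ⟨μ, c, hc, h0, hl, hV⟩, hw0, hval, harea, hbelow⟩ := exists_chain_le f s n
    ((fExt_strictMono n g).strictMonoOn _) (fun i hi j hj hij => sub_le_sub_right (hr hi hj hij) _)
    (sub_self _)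
  have hf0 : f 0 = 0 := by simp [hf, fExt]
  have hfn : f n = (n : ℝ) + g := by
    simp [hf, fExt, show ¬ n ≤ n - g by omega]
  refine ⟨V + 2 * r n * f n, ?_, μ, c, hc, h0, hl, ?_⟩
  · have hsum' : ∑ i ∈ range (n + 1), s i = -((n : ℝ) + 1) * r n := by
      simp only [hs, sum_sub_distrib, hsum, sum_const, card_range, nsmul_eq_mul]
      push_cast; ring
    simp only [hf0, sub_zero] at hval harea
    obtain ⟨m₀, hm₀, hm₀'⟩ : ∃ m ∈ range (n + 1), 0 < w m * f m := by
      by_contra h
      push Not at h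
      have : s 0 ≤ 0 := hval ▸ sum_nonpos h
      simp only [hs] at this
      linarith
    have key : ((n : ℝ) + 1) * V < 2 * ((n : ℝ) + g) * ∑ i ∈ range (n + 1), s i := by
      calc ((n : ℝ) + 1) * V = ∑ m ∈ range (n + 1), w m * (((n : ℝ) + 1) * f m ^ 2) := by
            rw [← harea, mul_sum]; exact sum_congr rfl (fun m _ => by ring)
        _ < ∑ m ∈ range (n + 1), w m *
              (2 * ((n : ℝ) + g) * ∑ i ∈ range (n + 1), max 0 (f m - f i)) := by
            refine sum_lt_sum (fun m hm => ?_) ⟨m₀, hm₀, ?_⟩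
            · refine mul_le_mul_of_nonneg_left ?_ (hw0 m)
              rcases Nat.eq_zero_or_pos m with rfl | hm'
              · rw [hf0]; simp only [ne_eq, OfNat.ofNat_ne_zero, not_false_eq_true, zero_pow, mul_zero]
                positivity
              · exact ((key_estimate n g m hg hn hm' (by simpa using mem_range.mp hm |> Nat.lt_succ_iff.mp)).trans_le
                  (mul_le_mul_of_nonneg_left (sum_le_max f n m (mem_range.mp hm)) (by positivity))).le
            · have hm' : 0 < m₀ := Nat.pos_of_ne_zero (by rintro rfl; simp [hf0] at hm₀')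
              refine mul_lt_mul_of_pos_left ?_ (lt_of_le_of_ne (hw0 m₀) (by
                intro h; simp [← h] at hm₀'))
              exact (key_estimate n g m₀ hg hn hm' (Nat.lt_succ_iff.mp (mem_range.mp hm₀))).trans_le
                (mul_le_mul_of_nonneg_left (sum_le_max f n m₀ (mem_range.mp hm₀)) (by positivity))
        _ = 2 * ((n : ℝ) + g) *
              ∑ i ∈ range (n + 1), ∑ m ∈ range (n + 1), w m * max 0 (f m - f i) := by
            rw [sum_comm, mul_sum]
            exact sum_congr rfl (fun m _ => by rw [← mul_sum]; ring)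
        _ ≤ _ := mul_le_mul_of_nonneg_left
            (sum_le_sum (fun i hi => hbelow i (Nat.lt_succ_iff.mp (mem_range.mp hi)))) (by positivity)
    rw [hsum'] at key
    rw [hfn]
    nlinarith [(n.cast_nonneg : (0 : ℝ) ≤ n)]
  · rw [← hV]
    have htel : ∑ j : Fin μ, (f (c j.succ) - f (c j.castSucc)) = f n := by
      have h := Fin.sum_univ_succ (fun i => f (c i))
      have h' := Fin.sum_univ_castSucc (fun i => f (c i))
      rw [sum_sub_distrib]
      rw [h0, hf0] at h
      rw [hl] at h'
      linarith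
    rw [← htel, mul_sum, ← sum_add_distrib]
    exact sum_congr rfl (fun j _ => by simp only [hs]; ring)

/-- Abel summation: raising the sequence can only increase the total. -/
theorem le_of_le (μ : ℕ) (d x : ℕ → ℝ) (hd : ∀ i, 0 ≤ d i) (hd0 : d 0 = 0)
    (hx : ∀ i, x (i + 1) ≤ x i) : ∀ k, k ≤ μ →
      d k * (x (k - 1) + x k) ≤ ∑ j ∈ range k, (d (j + 1) - d j) * (x (j + 1) + x j)
  | 0, _ => by simp [hd0]
  | k + 1, h => by
    have ih := le_of_le μ d x hd hd0 hx k (by omega)
    rw [sum_range_succ, Nat.add_sub_cancel]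
    have h1 : x (k + 1) ≤ x (k - 1) := by
      rcases k with _ | k
      · exact hx 0
      · exact (hx (k + 1)).trans (hx k)
    nlinarith [mul_nonneg (hd k) (sub_nonneg.mpr h1)]

/-- The criterion in the form used by the milestone. -/
theorem exists_chain_sum_neg (n g : ℕ) (hg : 1 ≤ g) (hn : 2 * g ≤ n)
    (e : Fin (n + 1) → ℕ) (he0 : e 0 = 0) (hen : e (Fin.last n) = n + g)
    (hle : ∀ i : Fin (n + 1), (i : ℕ) ≤ n - g → e i ≤ (i : ℕ))
    (hle' : ∀ i : Fin (n + 1), e i ≤ (i : ℕ) + g)
    (r : Fin (n + 1) → ℝ) (hanti : Antitone r) (hsum : ∑ i, r i = 0) (hr : r ≠ 0) :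
    ∃ (μ : ℕ) (c : Fin (μ + 1) → Fin (n + 1)), StrictMono c ∧ c 0 = 0 ∧ c (Fin.last μ) = Fin.last n ∧
      ∑ j : Fin μ, ((e (c j.succ) : ℝ) - (e (c j.castSucc) : ℝ)) *
        (r (c j.succ) + r (c j.castSucc)) < 0 := by
  set R : ℕ → ℝ := fun i => r ⟨min i n, by omega⟩ with hR
  have hR' : ∀ i : Fin (n + 1), R i = r i := fun i => congrArg r (Fin.ext (by simp; omega))
  have hRanti : ∀ i j, i ≤ j → R j ≤ R i := fun i j h =>
    hanti (Fin.mk_le_mk.mpr (min_le_min h le_rfl))
  have hsumR : ∑ i ∈ range (n + 1), R i = 0 := by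
    rw [← hsum, ← Fin.sum_univ_eq_sum_range]
    exact sum_congr rfl (fun i _ => hR' i)
  have hR0 : R n < R 0 := by
    refine lt_of_le_of_ne (hRanti 0 n (Nat.zero_le n)) (fun h => hr (funext fun i => ?_))
    have hconst : ∀ j : Fin (n + 1), R j = R 0 := fun j =>
      le_antisymm (hRanti 0 j (Nat.zero_le _)) (h ▸ hRanti j n (Nat.lt_succ_iff.mp j.2))
    have : ((n : ℝ) + 1) * R 0 = 0 := by
      rw [← hsumR, ← Fin.sum_univ_eq_sum_range, sum_congr rfl (fun j _ => hconst j)]
      simp
    rw [← hR', hconst, Pi.zero_apply]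
    exact (mul_eq_zero.mp this).resolve_left (by positivity)
  obtain ⟨V, hV0, μ, c, hc, h0, hl, hV⟩ :=
    exists_chain_neg n g hg hn R (fun i _ j _ h => hRanti i j h) hsumR hR0
  have hcn : ∀ i, c i < n + 1 := fun i => by
    have := hc.monotone (Fin.le_last i); omega
  refine ⟨μ, fun i => ⟨c i, hcn i⟩, fun i j h => hc h, Fin.ext h0, Fin.ext hl, ?_⟩
  set E : ℕ → ℝ := fun i => (e ⟨min i n, by omega⟩ : ℝ) with hE
  have hE' : ∀ i : Fin (n + 1), E i = e i := fun i => by
    simp only [hE]; congr 2; ext; simp; omega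
  have hEf : ∀ i, i ≤ n → E i ≤ fExt n g i := by
    intro i hi
    have hi' : E i = e ⟨i, by omega⟩ := hE' ⟨i, by omega⟩
    rw [hi']
    unfold fExt
    split_ifs with h
    · simpa using hle ⟨i, by omega⟩ h
    · exact_mod_cast hle' ⟨i, by omega⟩
  set C : ℕ → ℕ := fun j => c ⟨min j μ, by omega⟩ with hC
  have hC' : ∀ i : Fin (μ + 1), C i = c i := fun i => congrArg c (Fin.ext (by simp; omega))
  have hCn : ∀ j, C j ≤ n := fun j => Nat.lt_succ_iff.mp (hcn _)
  have hCs : ∀ j, C j ≤ C (j + 1) := fun j =>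
    hc.monotone (Fin.mk_le_mk.mpr (min_le_min (Nat.le_succ j) le_rfl))
  have key := le_of_le μ (fun j => fExt n g (C j) - E (C j)) (fun j => R (C j))
    (fun j => sub_nonneg.mpr (hEf _ (hCn j)))
    (by
      have : C 0 = 0 := (hC' 0).trans h0
      have e1 : E 0 = e 0 := hE' 0
      simp [this, fExt, e1, he0])
    (fun j => hRanti _ _ (hCs j)) μ le_rfl
  have hd : fExt n g (C μ) - E (C μ) = 0 := by
    have : C μ = n := by rw [← Fin.val_last μ, hC', hl]
    have e1 : E n = e (Fin.last n) := hE' (Fin.last n)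
    rw [this, e1, hen]
    simp [fExt, show ¬ n ≤ n - g by omega]
  rw [hd, zero_mul, ← Fin.sum_univ_eq_sum_range] at key
  have step : ∀ j : Fin μ,
      ((e ⟨c j.succ, hcn _⟩ : ℝ) - (e ⟨c j.castSucc, hcn _⟩ : ℝ)) *
          (r ⟨c j.succ, hcn _⟩ + r ⟨c j.castSucc, hcn _⟩) +
        ((fExt n g (C ((j : ℕ) + 1)) - E (C ((j : ℕ) + 1))) - (fExt n g (C j) - E (C j))) *
          (R (C ((j : ℕ) + 1)) + R (C j)) =
      (fExt n g (c j.succ) - fExt n g (c j.castSucc)) * (R (c j.succ) + R (c j.castSucc)) := by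
    intro j
    have a1 : C ((j : ℕ) + 1) = c j.succ := hC' j.succ
    have a2 : C (j : ℕ) = c j.castSucc := hC' j.castSucc
    rw [a1, a2, ← hR' ⟨c j.succ, hcn _⟩, ← hR' ⟨c j.castSucc, hcn _⟩, ← hE' ⟨c j.succ, hcn _⟩,
      ← hE' ⟨c j.castSucc, hcn _⟩]
    ring
  have hsum' := Finset.sum_congr (rfl : (univ : Finset (Fin μ)) = univ) (fun j _ => step j)
  rw [sum_add_distrib, hV] at hsum'
  linarith

end Groth.Agent.Lib.GIT.ChainGap
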