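import Mathlib.Analysis.InnerProductSpace.Basic
import Mathlib.Analysis.Normed.Module.FiniteDimension
import Mathlib.Analysis.InnerProductSpace.PiL2
import Mathlib.Algebra.Module.ZLattice.Basic
import Mathlib.LinearAlgebra.Matrix.ToLinearEquiv
import Mathlib.LinearAlgebra.Dual.Lemmas
import Mathlib.Topology.Algebra.Order.Archimedean

/-!
Rationality of the point of least norm of a rational polyhedron in a lattice with integer valued
inner product, and the primitive maximiser of `g_min v / ‖v‖` on a rational cone.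
-/

set_option autoImplicit false

namespace Groth.Agent.Lib.GIT.Maximizer

open scoped RealInnerProductSpace
open Module

universe u

variable {E : Type u} [NormedAddCommGroup E] [InnerProductSpace ℝ E] [FiniteDimensional ℝ E]
  (L : Submodule ℤ E) [DiscreteTopology L] [IsZLattice ℝ L]

/-- Integral functionals are represented, up to one integer factor, by lattice vectors. -/
theorem exists_repr (hint : ∀ x ∈ L, ∀ y ∈ L, ∃ n : ℤ, ⟪x, y⟫ = (n : ℝ)) :
    ∃ d : ℤ, d ≠ 0 ∧ ∀ h : Dual ℝ E, (∀ x ∈ L, ∃ n : ℤ, h x = (n : ℝ)) →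
      ∃ s ∈ L, ∀ x : E, ⟪x, s⟫ = (d : ℝ) * h x := by
  haveI : Module.Finite ℤ L := ZLattice.module_finite ℝ L
  haveI : Module.Free ℤ L := ZLattice.module_free ℝ L
  classical
  let b := Module.Free.chooseBasis ℤ L
  choose G hG using fun i j => hint _ (b i).2 _ (b j).2
  let A : Matrix _ _ ℤ := Matrix.of G
  have hA : ∀ (v : Module.Free.ChooseBasisIndex ℤ L → ℤ) i,
      (((A.mulVec v) i : ℤ) : ℝ) = ⟪((b i : L) : E), ∑ j, v j • ((b j : L) : E)⟫ := by
    intro v i
    simp only [Matrix.mulVec, dotProduct, A, Matrix.of_apply, inner_sum, ← Int.cast_smul_eq_zsmul ℝ,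
      inner_smul_right, hG, Int.cast_sum, Int.cast_mul]
    exact Finset.sum_congr rfl (fun j _ => mul_comm _ _)
  have hdet : A.det ≠ 0 := by
    intro h
    obtain ⟨v, hv0, hv⟩ := Matrix.exists_mulVec_eq_zero_iff.mpr h
    refine hv0 ?_
    set x : E := ∑ j, v j • ((b j : L) : E) with hx
    have hzero : ∀ i, ⟪((b i : L) : E), x⟫ = 0 := fun i => by rw [← hA, hv]; simp
    have : ⟪x, x⟫ = 0 := by
      conv_lhs => arg 2; rw [hx]
      simp only [sum_inner, ← Int.cast_smul_eq_zsmul ℝ, inner_smul_left, hzero, mul_zero,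
        Finset.sum_const_zero]
    have hx0 : (∑ j, v j • b j : L) = 0 := by
      ext
      rw [Submodule.coe_sum]
      simp only [Submodule.coe_smul, ZeroMemClass.coe_zero]
      exact hx ▸ inner_self_eq_zero.mp this
    exact funext fun i => Fintype.linearIndependent_iff.mp b.linearIndependent v hx0 i
  refine ⟨A.det, hdet, fun h hh => ?_⟩
  choose z hz using fun i => hh _ (b i).2
  set v := A.adjugate.mulVec z with hv
  refine ⟨(∑ j, v j • b j : L), SetLike.coe_mem _, fun x => ?_⟩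
  have hb : ∀ i, ⟪((b i : L) : E), ((∑ j, v j • b j : L) : E)⟫ = (A.det : ℝ) * h (b i : L) := by
    intro i
    rw [Submodule.coe_sum]
    simp only [Submodule.coe_smul]
    rw [← hA, hv, Matrix.mulVec_mulVec, Matrix.mul_adjugate, Matrix.smul_mulVec, Matrix.one_mulVec]
    simp [hz]
  have key : innerₗ E ((∑ j, v j • b j : L) : E) = (A.det : ℝ) • h := by
    refine (b.ofZLatticeBasis ℝ L).ext (fun i => ?_)
    rw [Basis.ofZLatticeBasis_apply, innerₗ_apply_apply, real_inner_comm, hb]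
    simp
  rw [real_inner_comm]
  exact congrArg (fun φ : Dual ℝ E => φ x) key

/-- A vector which is fixed by integral equations and lies in the span of their representatives has
a positive multiple in the lattice. -/
theorem exists_nsmul_mem {ι : Type*} [Fintype ι] (h : ι → Dual ℝ E) (s : ι → E) (d : ℤ) (hd : d ≠ 0)
    (hs : ∀ i, s i ∈ L) (hrep : ∀ i x, ⟪x, s i⟫ = (d : ℝ) * h i x)
    (hh : ∀ i, ∀ x ∈ L, ∃ n : ℤ, h i x = (n : ℝ)) (p : E) (c : ι → ℤ)
    (hp : p ∈ Submodule.span ℝ (Set.range s)) (hc : ∀ i, h i p = (c i : ℝ)) :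
    ∃ N : ℕ, 0 < N ∧ (N : ℝ) • p ∈ L := by
  obtain ⟨ν, hν⟩ := (Submodule.mem_span_range_iff_exists_fun ℝ).mp hp
  obtain ⟨ψ, hψ⟩ : ∃ ψ : ℝ →ₗ[ℚ] ℚ, ψ 1 = 1 := by
    obtain ⟨ψ, hψ⟩ := LinearMap.exists_leftInverse_of_injective (Algebra.linearMap ℚ ℝ)
      (LinearMap.ker_eq_bot.mpr (algebraMap ℚ ℝ).injective)
    exact ⟨ψ, by simpa using congrArg (fun φ : ℚ →ₗ[ℚ] ℚ => φ 1) hψ⟩
  choose K hK using fun i j => hh i _ (hs j)
  set μ : ι → ℚ := fun j => ψ (ν j) with hμ
  have hsys : ∀ i, ∑ j, μ j * (K i j : ℚ) = (c i : ℚ) := by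
    intro i
    have h1 : ∑ j, (K i j : ℚ) • ν j = (c i : ℚ) • (1 : ℝ) := by
      rw [Rat.smul_def, ← mul_one ((c i : ℚ) : ℝ)]
      have := hc i
      rw [← hν, map_sum] at this
      simp only [map_smul, hK, smul_eq_mul] at this
      simp only [Rat.smul_def, Rat.cast_intCast, mul_one]
      rw [← this]
      exact Finset.sum_congr rfl (fun j _ => mul_comm _ _)
    have := congrArg ψ h1
    simp only [map_sum, map_smul, hψ, smul_eq_mul, mul_one] at this
    rw [← this]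
    exact Finset.sum_congr rfl (fun j _ => mul_comm _ _)
  set q : E := ∑ j, (μ j : ℝ) • s j with hq
  have hqp : ∀ i, h i (q - p) = 0 := by
    intro i
    rw [map_sub, hc, hq, map_sum]
    simp only [map_smul, hK, smul_eq_mul, sub_eq_zero]
    exact_mod_cast hsys i
  have : q = p := by
    rw [← sub_eq_zero, ← inner_self_eq_zero (𝕜 := ℝ)]
    have e : q - p = ∑ j, ((μ j : ℝ) - ν j) • s j := by
      simp only [hq, ← hν, sub_smul, Finset.sum_sub_distrib]
    conv_lhs => arg 3; rw [e]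
    simp only [inner_sum, inner_smul_right, hrep, hqp, mul_zero, Finset.sum_const_zero]
  refine ⟨∏ j, (μ j).den, Finset.prod_pos (fun j _ => (μ j).den_pos), ?_⟩
  rw [← this, hq, Finset.smul_sum]
  refine Submodule.sum_mem _ (fun j hj => ?_)
  obtain ⟨m, hm⟩ := Finset.dvd_prod_of_mem (fun j => (μ j).den) hj
  have : ((∏ j, (μ j).den : ℕ) : ℝ) * (μ j : ℝ) = (((m : ℤ) * (μ j).num : ℤ) : ℝ) := by
    rw [hm]
    have h2 : ((μ j : ℚ) : ℝ) * ((μ j).den : ℝ) = ((μ j).num : ℝ) := by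
      exact_mod_cast Rat.mul_den_eq_num (μ j)
    push_cast
    rw [← h2]; ring
  rw [smul_smul, this, Int.cast_smul_eq_zsmul]
  exact L.smul_mem _ (hs j)

theorem existsUnique_primitive (hint : ∀ x ∈ L, ∀ y ∈ L, ∃ n : ℤ, ⟪x, y⟫ = (n : ℝ))
    (F G : Finset (Dual ℝ E)) (hF : F.Nonempty) (hG : G.Nonempty)
    (hFi : ∀ f ∈ F, ∀ x ∈ L, ∃ n : ℤ, f x = (n : ℝ))
    (hGi : ∀ g ∈ G, ∀ x ∈ L, ∃ n : ℤ, g x = (n : ℝ))
    (hpos : ∃ v : E, 0 ≤ F.inf' hF (fun f => f v) ∧ 0 < G.inf' hG (fun g => g v)) :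
    ∃ M : ℝ, IsGreatest ((fun v => G.inf' hG (fun g => g v) / ‖v‖) ''
        {v : E | v ≠ 0 ∧ 0 ≤ F.inf' hF (fun f => f v)}) M ∧
      ∃! v₀ : E, v₀ ∈ L ∧ v₀ ≠ 0 ∧ 0 ≤ F.inf' hF (fun f => f v₀) ∧
        G.inf' hG (fun g => g v₀) / ‖v₀‖ = M ∧
        ∀ v ∈ L, v ≠ 0 → 0 ≤ F.inf' hF (fun f => f v) → G.inf' hG (fun g => g v) / ‖v‖ = M →
          ∃ n : ℤ, v = n • v₀ := by
  simp only [Finset.le_inf'_iff] at hpos ⊢
  set gm : E → ℝ := fun v => G.inf' hG (fun g => g v) with hgm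
  have hsmul : ∀ (t : ℝ), 0 ≤ t → ∀ v, gm (t • v) = t * gm v := by
    intro t ht v
    simp only [hgm, map_smul, smul_eq_mul]
    obtain ⟨g₀, hg₀, hg₀'⟩ := Finset.exists_mem_eq_inf' hG (fun g : Dual ℝ E => g v)
    refine le_antisymm ?_ (Finset.le_inf' _ _ (fun g hg => ?_))
    · rw [hg₀']; exact Finset.inf'_le (fun g : Dual ℝ E => t * g v) hg₀
    · exact mul_le_mul_of_nonneg_left (Finset.inf'_le (fun g : Dual ℝ E => g v) hg) ht
  set P : Set E := {v | (∀ f ∈ F, 0 ≤ f v) ∧ ∀ g ∈ G, 1 ≤ g v} with hP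
  have hPc : IsClosed P := by
    have e : P = (⋂ f ∈ F, {v | 0 ≤ f v}) ∩ ⋂ g ∈ G, {v | 1 ≤ g v} := by
      ext v; simp [hP]
    rw [e]
    exact (isClosed_biInter fun f _ => isClosed_le continuous_const
      f.continuous_of_finiteDimensional).inter (isClosed_biInter fun g _ =>
      isClosed_le continuous_const g.continuous_of_finiteDimensional)
  have hnorm : ∀ v : E, v ≠ 0 → (∀ f ∈ F, 0 ≤ f v) → 0 < gm v → (gm v)⁻¹ • v ∈ P := by
    intro v _ hv hg
    refine ⟨fun f hf => ?_, fun g hgG => ?_⟩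
    · rw [map_smul, smul_eq_mul]; exact mul_nonneg (inv_nonneg.mpr hg.le) (hv f hf)
    · rw [map_smul, smul_eq_mul, ← div_eq_inv_mul, one_le_div hg]
      exact Finset.inf'_le (fun g : Dual ℝ E => g v) hgG
  have hPne : P.Nonempty := by
    obtain ⟨v, hv, hg⟩ := hpos
    refine ⟨_, hnorm v ?_ hv hg⟩
    rintro rfl
    simp [hgm] at hg
  obtain ⟨p, hpP, hp⟩ : ∃ p ∈ P, ∀ v ∈ P, ‖p‖ ≤ ‖v‖ := by
    obtain ⟨p, hp1, hp2⟩ := hPc.exists_infDist_eq_dist hPne (0 : E)
    refine ⟨p, hp1, fun v hv => ?_⟩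
    have := Metric.infDist_le_dist_of_mem (x := (0 : E)) hv
    rw [hp2, dist_zero_left, dist_zero_left] at this
    exact this
  have hp0 : p ≠ 0 := by
    obtain ⟨g, hg⟩ := hG
    rintro rfl
    simpa using lt_of_lt_of_le one_pos (hpP.2 g hg)
  have hpn : 0 < ‖p‖ := norm_pos_iff.mpr hp0
  have hgp : gm p = 1 := by
    refine le_antisymm ?_ ((Finset.le_inf'_iff hG _).mpr hpP.2)
    have h1 : (1 : ℝ) ≤ gm p := (Finset.le_inf'_iff hG _).mpr hpP.2
    have h0 : 0 < gm p := lt_of_lt_of_le one_pos h1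
    have := hp _ (hnorm p hp0 hpP.1 h0)
    rw [norm_smul, Real.norm_of_nonneg (inv_nonneg.mpr h0.le)] at this
    rw [← div_eq_inv_mul, le_div_iff₀ h0] at this
    nlinarith
  -- uniqueness of the point of least norm
  have huniq : ∀ v ∈ P, ‖v‖ ≤ ‖p‖ → v = p := by
    intro v hv hle
    have hmem : (1 / 2 : ℝ) • (v + p) ∈ P := by
      refine ⟨fun f hf => ?_, fun g hg => ?_⟩
      · have := hv.1 f hf; have := hpP.1 f hf
        simp only [map_smul, map_add, smul_eq_mul]; linarith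
      · have := hv.2 g hg; have := hpP.2 g hg
        simp only [map_smul, map_add, smul_eq_mul]; linarith
    have h1 := hp _ hmem
    rw [norm_smul, Real.norm_of_nonneg (by norm_num : (0 : ℝ) ≤ 1 / 2)] at h1
    have h2 := parallelogram_law_with_norm ℝ v p
    have h3 : ‖v - p‖ = 0 := by nlinarith [norm_nonneg (v - p), norm_nonneg v]
    exact sub_eq_zero.mp (norm_eq_zero.mp h3)
  have hupper : ∀ v : E, v ≠ 0 → (∀ f ∈ F, 0 ≤ f v) → gm v / ‖v‖ ≤ 1 / ‖p‖ ∧
      (gm v / ‖v‖ = 1 / ‖p‖ → 0 < gm v ∧ v = gm v • p) := by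
    intro v hv0 hv
    have hvn : 0 < ‖v‖ := norm_pos_iff.mpr hv0
    rcases le_or_gt (gm v) 0 with hg | hg
    · have h1 : gm v / ‖v‖ ≤ 0 := div_nonpos_of_nonpos_of_nonneg hg hvn.le
      have h2 : 0 < 1 / ‖p‖ := by positivity
      exact ⟨by linarith, fun h => by linarith⟩
    · have hmem := hnorm v hv0 hv hg
      have h1 := hp _ hmem
      rw [norm_smul, Real.norm_of_nonneg (inv_nonneg.mpr hg.le), ← div_eq_inv_mul,
        le_div_iff₀ hg] at h1
      refine ⟨(div_le_div_iff₀ hvn hpn).mpr (by linarith), fun h => ⟨hg, ?_⟩⟩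
      have h2 : ‖(gm v)⁻¹ • v‖ ≤ ‖p‖ := by
        rw [norm_smul, Real.norm_of_nonneg (inv_nonneg.mpr hg.le), ← div_eq_inv_mul, div_le_iff₀ hg]
        rw [div_eq_div_iff hvn.ne' hpn.ne'] at h
        linarith
      rw [← huniq _ hmem h2, smul_inv_smul₀ hg.ne']
  have hray : ∀ t : ℝ, 0 < t → (t • p ≠ 0) ∧ (∀ f ∈ F, 0 ≤ f (t • p)) ∧
      gm (t • p) / ‖t • p‖ = 1 / ‖p‖ := by
    intro t ht
    refine ⟨smul_ne_zero ht.ne' hp0, fun f hf => ?_, ?_⟩
    · rw [map_smul, smul_eq_mul]; exact mul_nonneg ht.le (hpP.1 f hf)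
    · rw [hsmul t ht.le, hgp, norm_smul, Real.norm_of_nonneg ht.le]
      field_simp
  -- the active constraints
  obtain ⟨N, hN, hNp⟩ : ∃ N : ℕ, 0 < N ∧ (N : ℝ) • p ∈ L := by
    classical
    obtain ⟨d, hd, hrep⟩ := exists_repr L hint
    let A : Finset (Dual ℝ E × ℤ) := ((F.image fun f => (f, (0 : ℤ))) ∪
      (G.image fun g => (g, (1 : ℤ)))).filter (fun a => a.1 p = (a.2 : ℝ))
    have hAint : ∀ a : A, ∀ x ∈ L, ∃ n : ℤ, a.1.1 x = (n : ℝ) := by
      rintro ⟨a, ha⟩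
      simp only [A, Finset.mem_filter, Finset.mem_union, Finset.mem_image] at ha
      rcases ha.1 with ⟨f, hf, rfl⟩ | ⟨g, hg, rfl⟩
      · exact hFi f hf
      · exact hGi g hg
    choose s hs hs' using fun a : A => hrep a.1.1 (hAint a)
    refine exists_nsmul_mem L (fun a : A => a.1.1) s d hd hs hs' hAint p (fun a => a.1.2) ?_
      (fun a => (Finset.mem_filter.mp a.2).2)
    -- `p` is orthogonal to the common kernel of the active constraints
    have horth : ∀ w : E, (∀ a : A, a.1.1 w = 0) → ⟪p, w⟫ = 0 := by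
      intro w hw
      have key : ∀ w : E, (∀ a : A, a.1.1 w = 0) → 0 ≤ ⟪p, w⟫ := by
        intro w hw
        have hev : ∀ᶠ t in nhdsWithin (0 : ℝ) (Set.Ioi 0), p + t • w ∈ P := by
          have hcond : ∀ (φ : Dual ℝ E) (c : ℤ), (φ p = c → φ w = 0) → (c : ℝ) ≤ φ p →
              ∀ᶠ t in nhdsWithin (0 : ℝ) (Set.Ioi 0), (c : ℝ) ≤ φ (p + t • w) := by
            intro φ c h1 h2
            rcases eq_or_lt_of_le h2 with h3 | h3
            · filter_upwards with t
              rw [map_add, map_smul, h1 h3.symm, smul_zero, add_zero, ← h3]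
            · have hc : Continuous fun t : ℝ => φ (p + t • w) :=
                φ.continuous_of_finiteDimensional.comp (by fun_prop)
              exact nhdsWithin_le_nhds ((hc.tendsto 0).eventually_const_le (by simpa using h3))
          have h1 : ∀ᶠ t in nhdsWithin (0 : ℝ) (Set.Ioi 0), ∀ f ∈ F, (0 : ℝ) ≤ f (p + t • w) := by
            refine F.eventually_all.mpr (fun f hf => ?_)
            simpa using hcond f 0 (fun h => hw ⟨(f, 0), by
              simpa [A, hf] using h⟩) (by simpa using hpP.1 f hf)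
          have h2 : ∀ᶠ t in nhdsWithin (0 : ℝ) (Set.Ioi 0), ∀ g ∈ G, (1 : ℝ) ≤ g (p + t • w) := by
            refine G.eventually_all.mpr (fun g hg => ?_)
            simpa using hcond g 1 (fun h => hw ⟨(g, 1), by
              simpa [A, hg] using h⟩) (by simpa using hpP.2 g hg)
          filter_upwards [h1, h2] with t h h' using ⟨h, h'⟩
        refine ge_of_tendsto (f := fun t : ℝ => ⟪p, w⟫ + t * ⟪w, w⟫ / 2)
          (x := nhdsWithin (0 : ℝ) (Set.Ioi 0)) ?_ ?_
        · refine tendsto_nhdsWithin_of_tendsto_nhds ?_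
          have hc : Continuous fun t : ℝ => ⟪p, w⟫ + t * ⟪w, w⟫ / 2 := by fun_prop
          simpa using hc.tendsto 0
        · filter_upwards [hev, self_mem_nhdsWithin] with t ht ht0
          have h1 := hp _ ht
          have h2 : ‖p‖ ^ 2 ≤ ‖p + t • w‖ ^ 2 := pow_le_pow_left₀ hpn.le h1 2
          rw [← real_inner_self_eq_norm_sq, ← real_inner_self_eq_norm_sq, inner_add_add_self,
            inner_smul_left, inner_smul_right, real_inner_smul_left, inner_smul_right,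
            ] at h2
          rw [real_inner_comm p w] at h2
          simp only [starRingEnd_apply, star_trivial] at h2
          have ht0' : (0 : ℝ) < t := ht0
          by_contra hneg
          push Not at hneg
          nlinarith [mul_neg_of_pos_of_neg ht0' hneg]
      refine le_antisymm ?_ (key w hw)
      have := key (-w) (fun a => by rw [map_neg, hw, neg_zero])
      rw [inner_neg_right] at this
      linarith
    have hperp : p ∈ (Submodule.span ℝ (Set.range s))ᗮᗮ := by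
      intro w hw
      rw [real_inner_comm]
      refine horth w (fun a => ?_)
      have h0 : ⟪w, s a⟫ = 0 := by
        rw [real_inner_comm]
        exact hw _ (Submodule.subset_span ⟨a, rfl⟩)
      rw [hs'] at h0
      exact (mul_eq_zero.mp h0).resolve_left (by exact_mod_cast hd)
    rwa [Submodule.orthogonal_orthogonal] at hperp
  -- the group of `t` with `t • p ∈ L`
  let H : AddSubgroup ℝ :=
    L.toAddSubgroup.comap (LinearMap.toSpanSingleton ℝ E p).toAddMonoidHom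
  have hmemH : ∀ t : ℝ, t ∈ H ↔ t • p ∈ L := fun t => Iff.rfl
  obtain ⟨ε, hε, hball⟩ : ∃ ε > 0, ∀ x ∈ L, ‖x‖ < ε → x = 0 := by
    obtain ⟨ε, hε, h⟩ := Metric.isOpen_iff.mp (isOpen_discrete ({0} : Set L)) 0 rfl
    refine ⟨ε, hε, fun x hx hlt => congrArg Subtype.val (h (?_ : (⟨x, hx⟩ : L) ∈ Metric.ball 0 ε))⟩
    simpa using hlt
  obtain ⟨t₀, ht₀⟩ : ∃ t₀, H = AddSubgroup.closure {t₀} := by
    refine AddSubgroup.cyclic_of_isolated_zero (a := ε / ‖p‖) (by positivity)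
      (Set.disjoint_left.mpr (fun t ht htI => ?_))
    have : ‖t • p‖ < ε := by
      rw [norm_smul, Real.norm_of_nonneg htI.1.le, ← lt_div_iff₀ hpn]
      exact htI.2
    exact smul_ne_zero htI.1.ne' hp0 (hball _ ((hmemH t).mp ht) this)
  have hgen : ∀ t : ℝ, t • p ∈ L → ∃ n : ℤ, t = n * |t₀| := by
    intro t ht
    obtain ⟨n, hn⟩ := AddSubgroup.mem_closure_singleton.mp (ht₀ ▸ (hmemH t).mpr ht)
    rcases abs_choice t₀ with h | h
    · exact ⟨n, by rw [← hn, h, zsmul_eq_mul]⟩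
    · exact ⟨-n, by rw [← hn, h, zsmul_eq_mul]; push_cast; ring⟩
  have ht₀pos : 0 < |t₀| := by
    refine abs_pos.mpr (fun h => ?_)
    obtain ⟨n, hn⟩ := hgen N hNp
    rw [h, abs_zero, mul_zero] at hn
    exact hN.ne' (by exact_mod_cast hn)
  have ht₀L : |t₀| • p ∈ L := by
    have h1 : t₀ ∈ H := ht₀ ▸ AddSubgroup.subset_closure rfl
    rcases abs_choice t₀ with h | h
    · rw [h]; exact (hmemH _).mp h1
    · rw [h]; exact (hmemH _).mp (H.neg_mem h1)
  obtain ⟨hv₀0, hv₀F, hv₀M⟩ := hray _ ht₀pos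
  refine ⟨1 / ‖p‖, ⟨⟨|t₀| • p, ⟨hv₀0, hv₀F⟩, hv₀M⟩, ?_⟩, |t₀| • p,
    ⟨ht₀L, hv₀0, hv₀F, hv₀M, ?_⟩, ?_⟩
  · rintro _ ⟨v, ⟨hv0, hv⟩, rfl⟩
    exact (hupper v hv0 hv).1
  · intro v hvL hv0 hv hM
    obtain ⟨-, hvp⟩ := (hupper v hv0 hv).2 hM
    obtain ⟨n, hn⟩ := hgen (gm v) (hvp ▸ hvL)
    refine ⟨n, ?_⟩
    rw [hvp, hn, mul_smul, Int.cast_smul_eq_zsmul]
  · rintro y ⟨hyL, hy0, hyF, hyM, hymul⟩
    obtain ⟨hgy, hyp⟩ := (hupper y hy0 hyF).2 hyM
    obtain ⟨n, hn⟩ := hgen (gm y) (hyp ▸ hyL)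
    obtain ⟨m, hm⟩ := hymul _ ht₀L hv₀0 hv₀F hv₀M
    rw [hyp, ← Int.cast_smul_eq_zsmul ℝ, smul_smul] at hm
    have h1 := smul_left_injective ℝ hp0 hm
    rw [hn] at h1
    have hnm : m * n = 1 := by
      have h3 : ((m : ℝ) * n) * |t₀| = 1 * |t₀| := by linarith
      exact_mod_cast mul_right_cancel₀ ht₀pos.ne' h3
    have hn0 : 0 < n := by
      by_contra hh
      push Not at hh
      have : (n : ℝ) ≤ 0 := by exact_mod_cast hh
      nlinarith
    obtain rfl : n = 1 := (Int.eq_one_or_neg_one_of_mul_eq_one (by linarith : n * m = 1)).resolve_right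
      (by omega)
    rw [hyp, hn, Int.cast_one, one_mul]

end Groth.Agent.Lib.GIT.Maximizer
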